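import Cfsg.Agent.OddHalf.Known
import Cfsg.Agent.GH.AltOut

/-!
# The list `K4` of project GH consists of known simple groups
-/

set_option autoImplicit false

open Cfsg Subgroup
open Cfsg.Agent.GH.Defs

namespace Cfsg.Agent.Assembly.KnownFour

variable {X : Type*} [Group X]

theorem known_psl (h : IsPSL X) : IsKnownSimple' X := Or.inr (Or.inr (Or.inl h))

theorem known_psp (h : IsPSp X) : IsKnownSimple' X := Or.inr (Or.inr (Or.inr (Or.inl h)))

theorem known_psu (h : IsPSU X) : IsKnownSimple' X := Or.inr (Or.inr (Or.inr (Or.inr (Or.inl h))))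

theorem known_exc (h : IsExceptionalLieType X) : IsKnownSimple' X :=
  Or.inr (Or.inr (Or.inr (Or.inr (Or.inr (Or.inr (Or.inr (Or.inr (Or.inl h))))))))

theorem known_spor (h : IsSporadicGroup X) : IsKnownSimple' X :=
  Or.inr (Or.inr (Or.inr (Or.inr (Or.inr (Or.inr (Or.inr (Or.inr (Or.inr h))))))))

theorem known_alt (n : ℕ) (hn : 5 ≤ n) (h : IsAlt n X) : IsKnownSimple' X := Or.inr (Or.inl ⟨n, hn, h⟩)

/-- `PSU n F q` with `|F| = q²`, `n ≥ 3`, not `PSU_3(2)`. -/
theorem known_u {n q : ℕ} (hn : 3 ≤ n) (hq : q ≠ 2) {F : Type} [i : Field F] [j : Fintype F]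
    (hF : Fintype.card F = q ^ 2) (h : Nonempty (X ≃* Cfsg.PSU n F q)) : IsKnownSimple' X :=
  known_psu ⟨F, i, j, n, q, hF, hn, fun h => hq h.2, h⟩

/-- `PSL n F`, `n ≥ 3` -/
theorem known_l {n : ℕ} (hn : 2 ≤ n) {F : Type} [i : Field F] [j : Fintype F] (h4 : n = 2 → 4 ≤ Fintype.card F)
    (h : Nonempty (X ≃* Matrix.ProjectiveSpecialLinearGroup (Fin n) F)) : IsKnownSimple' X :=
  known_psl ⟨F, i, j, n, hn, h4, h⟩

theorem known_k2 (h : K2 X) : IsKnownSimple' X := by
  rcases h with ⟨F, _, _, -, h5, f⟩ | ⟨F, _, _, -, f⟩ | ⟨F, _, _, q, hF, hq, f⟩ | ⟨F, _, _, hF, f⟩ | f | h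
  · exact known_l le_rfl (fun _ => by omega) f
  · exact known_l (by norm_num) (fun h => absurd h (by norm_num)) f
  · exact known_u le_rfl (by rintro rfl; exact absurd hq (by decide)) hF f
  · exact known_u le_rfl (by norm_num) (by rw [hF]; norm_num) f
  · exact known_alt 7 (by norm_num) f
  · exact known_spor (Or.inl h)

theorem known_k3 (h : K3 X) : IsKnownSimple' X := by
  rcases h with ⟨F, _, _, hF, f⟩ | ⟨F, _, _, hF, f⟩ | h | h
  · exact known_l le_rfl (fun _ => by omega) f
  · exact known_exc (Or.inr (Or.inr (Or.inr (Or.inr (Or.inr (Or.inr (Or.inr (Or.inl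
      ⟨F, _, _, 1, le_rfl, by rw [hF]; norm_num, f⟩))))))))
  · exact known_exc (Or.inr (Or.inr (Or.inr (Or.inr (Or.inr (Or.inr (Or.inr (Or.inr (Or.inl h)))))))))
  · exact known_spor (by simp only [IsSporadicGroup]; tauto)

theorem oddCore_eq_bot [Finite X] [IsSimpleGroup X] (he : Even (Nat.card X)) : oddCore X = ⊥ := by
  rcases (pPrimeCore_normal 2 X).eq_bot_or_eq_top with h1 | h1
  · exact h1
  · exfalso
    have hc : (Nat.card (oddCore X)).Coprime 2 := Lib.Cores.pPrimeCore_coprime (G := X) 2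
    have h2 : oddCore X = ⊤ := h1
    rw [h2, Subgroup.card_top] at hc
    exact (Nat.not_odd_iff_even.2 he) (Nat.coprime_two_right.1 hc)

/-- **`K4` is a list of known simple groups.** -/
theorem known_k4 [Finite X] [IsSimpleGroup X] (hna : ¬ IsMulCommutative X) (h38 : GH.AltOut.St1738 X) (h : K4 X) :
    IsKnownSimple' X := by
  rcases h with h | h | ⟨F, _, _, hF, f⟩ | ⟨F, _, _, hF, f⟩ | ⟨n, h8, -, f⟩ | ⟨F, i1, i2, hF, f⟩ | ⟨F, _, _, hF, -, f⟩ |
    ⟨F, _, _, q, hF, hq, -, f⟩ | ⟨F, _, _, hF, f⟩ | ⟨F, _, _, q, hF, hq, f⟩ | ⟨⟨F, i1, i2, hF, f⟩, -⟩ |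
    ⟨⟨F, i1, i2, q, hq, hF, f⟩, -⟩ | h | h | h | h | h | h
  · exact known_k2 h
  · exact known_k3 h
  · exact known_l le_rfl (fun _ => by omega) f
  · exact known_l (by norm_num) (fun h => absurd h (by norm_num)) f
  · exact known_alt n (by omega) f
  · refine known_psp ⟨F, i1, i2, 2, le_rfl, fun _ => ?_, f⟩
    have h1 : 1 < Fintype.card F := Fintype.one_lt_card
    obtain ⟨k, hk⟩ := hF
    omega
  · exact known_l (by norm_num) (fun h => absurd h (by norm_num)) f
  · exact known_u (by norm_num) (by rintro rfl; exact absurd hq (by decide)) hF f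
  · exact known_l (by norm_num) (fun h => absurd h (by norm_num)) f
  · exact known_u (by norm_num) (by rintro rfl; omega) hF f
  · refine known_exc (Or.inl ⟨F, i1, i2, ?_, f⟩)
    have h1 : 1 < Fintype.card F := Fintype.one_lt_card
    obtain ⟨k, hk⟩ := hF
    omega
  · refine known_exc (Or.inr (Or.inr (Or.inr (Or.inr (Or.inr (Or.inr (Or.inl ⟨F, i1, i2, q, ?_, hF, f⟩)))))))
    have h1 : IsPrimePow (q ^ 3) := by
      rw [← hF]
      exact FiniteField.isPrimePow_card F
    exact (isPrimePow_pow_iff (by norm_num)).1 h1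
  · exact known_spor (by simp only [IsSporadicGroup]; tauto)
  · exact known_spor (by simp only [IsSporadicGroup]; tauto)
  · exact known_spor (by simp only [IsSporadicGroup]; tauto)
  · exact known_spor (by simp only [IsSporadicGroup]; tauto)
  · exact known_spor (by simp only [IsSporadicGroup]; tauto)
  · have he : Even (Nat.card X) := by
      obtain ⟨n, t, K, -, hK, -⟩ := h
      have h1 : orderOf t ∣ Nat.card X := orderOf_dvd_natCard t
      rw [hK.inv] at h1
      exact even_iff_two_dvd.2 h1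
    rcases GH.AltOut.mcl_or_ly hna (oddCore_eq_bot he) h38 h with h1 | h1
    · exact known_spor (by simp only [IsSporadicGroup]; tauto)
    · exact known_spor (by simp only [IsSporadicGroup]; tauto)

end Cfsg.Agent.Assembly.KnownFour
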